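import Mathlib

/-!
# S4908, Fi24': the trace argument for fixed point free automorphisms of order 3 (helper850)

A strongly regular graph with the parameters `(306936, 31671, 3510, 3240)` (the commuting graph on the transpositions of `Fi24`)
has no automorphism `s` of order `3` without fixed points with `d` not adjacent to `s d` for every `d`:
`(A + 81) (2 - P - P²) / 1296` is an idempotent of trace `306936 / 8 = 38367` (odd) and `(2 P + 1)² = -3` on its image.
-/

set_option autoImplicit false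

namespace Cfsg.Agent.H850.SRG

open Matrix

variable {D : Type*} [Fintype D] [DecidableEq D]

/-- an idempotent of odd trace commutes with no `K` with `K² = -3` on its image -/
theorem no_sqrt (E K : Matrix D D ℝ) (hE : E * E = E) (hEK : E * K = K * E) (hK : K * K * E = (-3 : ℝ) • E)
    (m : ℕ) (hm : Odd m) (ht : E.trace = m) : False := by
  set f : (D → ℝ) →ₗ[ℝ] (D → ℝ) := Matrix.toLin' E with hf
  set k : (D → ℝ) →ₗ[ℝ] (D → ℝ) := Matrix.toLin' K with hk
  have hff : f ∘ₗ f = f := by rw [hf, ← Matrix.toLin'_mul, hE]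
  have hfk : f ∘ₗ k = k ∘ₗ f := by rw [hf, hk, ← Matrix.toLin'_mul, ← Matrix.toLin'_mul, hEK]
  have hkkf : k ∘ₗ k ∘ₗ f = (-3 : ℝ) • f := by
    rw [hf, hk, ← Matrix.toLin'_mul, ← Matrix.toLin'_mul, ← Matrix.mul_assoc, hK, map_smul]
  set p : Submodule ℝ (D → ℝ) := LinearMap.range f with hp
  have hid : ∀ x ∈ p, f x = x := by
    rintro _ ⟨y, rfl⟩
    exact LinearMap.congr_fun hff y
  have hproj : LinearMap.IsProj p f := ⟨fun x => ⟨x, rfl⟩, hid⟩
  have htr : LinearMap.trace ℝ (D → ℝ) f = (Module.finrank ℝ p : ℝ) := hproj.trace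
  have htr' : LinearMap.trace ℝ (D → ℝ) f = m := by rw [hf, Matrix.trace_toLin'_eq, ht]
  have hrank : Module.finrank ℝ p = m := by exact_mod_cast htr.symm.trans htr'
  have hkp : ∀ x ∈ p, k x ∈ p := by
    intro x hx
    have h1 : f (k x) = k (f x) := LinearMap.congr_fun hfk x
    rw [hid x hx] at h1
    exact ⟨k x, h1⟩
  set g : p →ₗ[ℝ] p := k.restrict hkp with hg
  have hgg : g ∘ₗ g = (-3 : ℝ) • LinearMap.id := by
    ext ⟨x, hx⟩ : 2
    have h1 : k (k (f x)) = (-3 : ℝ) • f x := LinearMap.congr_fun hkkf x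
    rw [hid x hx] at h1
    exact h1
  have hdet : LinearMap.det g * LinearMap.det g = (-3 : ℝ) ^ m := by
    rw [← LinearMap.det_comp, hgg, LinearMap.det_smul, LinearMap.det_id, mul_one, hrank]
  have h2 : (-3 : ℝ) ^ m < 0 := hm.pow_neg (by norm_num)
  have h3 := mul_self_nonneg (LinearMap.det g)
  linarith

/-- the algebraic part -/
theorem alg_false (A P J : Matrix D D ℝ) (hA : A * A = (28431 : ℝ) • (1 : Matrix D D ℝ) + (270 : ℝ) • A + (3240 : ℝ) • J)
    (hAP : A * P = P * A) (hP : P * P * P = 1) (hJP : J * P = J)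
    (t1 : (1 : Matrix D D ℝ).trace = 306936) (tA : A.trace = 0) (tP : P.trace = 0) (tPP : (P * P).trace = 0)
    (tAP : (A * P).trace = 0) (tAPP : (A * (P * P)).trace = 0) : False := by
  set N : Matrix D D ℝ := (2 : ℝ) • (1 : Matrix D D ℝ) - P - P * P with hN
  set B : Matrix D D ℝ := A + (81 : ℝ) • (1 : Matrix D D ℝ) with hB
  have hP3 : P * (P * P) = 1 := by rw [← Matrix.mul_assoc, hP]
  have hNN : N * N = (3 : ℝ) • N := by
    rw [hN]
    simp only [Matrix.sub_mul, Matrix.mul_sub, Matrix.smul_mul, Matrix.mul_smul, Matrix.one_mul, Matrix.mul_one,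
      Matrix.mul_assoc, hP3]
    module
  have hPN : P * N = N * P := by
    rw [hN]
    simp only [Matrix.sub_mul, Matrix.mul_sub, Matrix.smul_mul, Matrix.mul_smul, Matrix.one_mul, Matrix.mul_one,
      Matrix.mul_assoc]
  have hBP : B * P = P * B := by
    rw [hB]
    simp only [Matrix.add_mul, Matrix.mul_add, Matrix.smul_mul, Matrix.mul_smul, Matrix.one_mul, Matrix.mul_one, hAP]
  have hBPP : B * (P * P) = P * P * B := by
    rw [← Matrix.mul_assoc, hBP, Matrix.mul_assoc, hBP, Matrix.mul_assoc]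
  have hNB : N * B = B * N := by
    rw [hN]
    simp only [Matrix.sub_mul, Matrix.mul_sub, Matrix.smul_mul, Matrix.mul_smul, Matrix.one_mul, Matrix.mul_one]
    rw [hBP, hBPP]
  have hJN : J * N = 0 := by
    rw [hN]
    simp only [Matrix.mul_sub, Matrix.mul_smul, Matrix.mul_one]
    rw [← Matrix.mul_assoc, hJP, hJP]
    module
  have hBB : B * B = (432 : ℝ) • B + (3240 : ℝ) • J := by
    rw [hB]
    simp only [Matrix.add_mul, Matrix.mul_add, Matrix.smul_mul, Matrix.mul_smul, Matrix.one_mul, Matrix.mul_one, hA]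
    module
  have hBBN : B * B * N = (432 : ℝ) • (B * N) := by
    rw [hBB, Matrix.add_mul, Matrix.smul_mul, Matrix.smul_mul, hJN, smul_zero, add_zero]
  have hK : ((2 : ℝ) • P + 1) * ((2 : ℝ) • P + 1) * N = (-3 : ℝ) • N := by
    rw [hN]
    simp only [Matrix.mul_sub, Matrix.add_mul, Matrix.mul_add, Matrix.smul_mul, Matrix.mul_smul,
      Matrix.one_mul, Matrix.mul_one, Matrix.mul_assoc, hP3]
    module
  have hBN2 : (B * N) * (B * N) = (1296 : ℝ) • (B * N) := by
    have h1 : (B * N) * (B * N) = (B * B * N) * N := by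
      rw [Matrix.mul_assoc, ← Matrix.mul_assoc N B N, hNB]
      simp only [Matrix.mul_assoc]
    rw [h1, hBBN, Matrix.smul_mul, Matrix.mul_assoc, hNN, Matrix.mul_smul, smul_smul]
    norm_num
  have tr : (B * N).trace = 81 * 2 * 306936 := by
    have h1 : B * N = (2 : ℝ) • A - A * P - A * (P * P) + (162 : ℝ) • (1 : Matrix D D ℝ) - (81 : ℝ) • P
        - (81 : ℝ) • (P * P) := by
      rw [hB, hN]
      simp only [Matrix.mul_sub, Matrix.add_mul, Matrix.smul_mul, Matrix.mul_smul,
        Matrix.one_mul, Matrix.mul_one]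
      module
    rw [h1]
    simp only [Matrix.trace_sub, Matrix.trace_add, Matrix.trace_smul, t1, tA, tP, tPP, tAP, tAPP, smul_eq_mul]
    norm_num
  refine no_sqrt ((1296 : ℝ)⁻¹ • (B * N)) ((2 : ℝ) • P + 1) ?_ ?_ ?_ 38367 (by decide) ?_
  · rw [Matrix.smul_mul, Matrix.mul_smul, hBN2, smul_smul, smul_smul]
    norm_num
  · simp only [Matrix.add_mul, Matrix.mul_add, Matrix.smul_mul, Matrix.mul_smul, Matrix.one_mul, Matrix.mul_one]
    rw [Matrix.mul_assoc B N P, ← hPN, ← Matrix.mul_assoc B P N, hBP, Matrix.mul_assoc P B N]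
    module
  · rw [Matrix.mul_smul, ← hNB, ← Matrix.mul_assoc, hK, Matrix.smul_mul, smul_comm]
  · rw [Matrix.trace_smul, tr]
    norm_num

/-- the graph form -/
theorem three_false (adj : D → D → Prop) [DecidableRel adj] (hi : ∀ d, ¬ adj d d) (hs : ∀ d e, adj d e → adj e d)
    (hA : ∀ d e, (Finset.univ.filter (fun f => adj d f ∧ adj f e)).card =
      if d = e then 31671 else if adj d e then 3510 else 3240)
    (hn : Fintype.card D = 306936) (s : Equiv.Perm D) (h3 : ∀ d, s (s (s d)) = d)
    (hadj : ∀ d e, adj (s d) (s e) ↔ adj d e) (hfix : ∀ d, s d ≠ d) (hline : ∀ d, ¬ adj d (s d)) : False := by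
  set A : Matrix D D ℝ := Matrix.of fun d e => if adj d e then 1 else 0 with hAd
  set P : Matrix D D ℝ := Matrix.of fun d e => if s d = e then 1 else 0 with hPd
  set J : Matrix D D ℝ := Matrix.of fun _ _ => 1 with hJd
  have hPM : ∀ (M : Matrix D D ℝ) (d e : D), (P * M) d e = M (s d) e := by
    intro M d e
    rw [Matrix.mul_apply]
    simp [hPd]
  have hMP : ∀ (M : Matrix D D ℝ) (d e : D), (M * P) d e = M d (s.symm e) := by
    intro M d e
    rw [Matrix.mul_apply]
    simp only [hPd, Matrix.of_apply, mul_ite, mul_one, mul_zero]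
    rw [Finset.sum_eq_single (s.symm e)]
    · simp
    · intro f _ hf
      rw [if_neg]
      intro h
      exact hf (by rw [← h, Equiv.symm_apply_apply])
    · intro h
      exact absurd (Finset.mem_univ _) h
  have hs2 : ∀ d, s (s d) = s.symm d := by
    intro d
    rw [Equiv.eq_symm_apply, h3]
  refine alg_false A P J ?_ ?_ ?_ ?_ ?_ ?_ ?_ ?_ ?_ ?_
  · ext d e
    rw [Matrix.mul_apply]
    have h1 : ∑ j, A d j * A j e = ((Finset.univ.filter (fun f => adj d f ∧ adj f e)).card : ℝ) := by
      rw [Finset.card_filter]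
      push_cast
      refine Finset.sum_congr rfl fun f _ => ?_
      simp only [hAd, Matrix.of_apply]
      by_cases h1 : adj d f <;> by_cases h2 : adj f e <;> simp [h1, h2]
    rw [h1, hA]
    simp only [hAd, hJd, Matrix.add_apply, Matrix.smul_apply, Matrix.of_apply, smul_eq_mul]
    by_cases hde : d = e
    · subst hde
      rw [if_pos rfl, if_neg (hi d), Matrix.one_apply_eq]
      norm_num
    · rw [if_neg hde, Matrix.one_apply_ne hde]
      by_cases h2 : adj d e
      · rw [if_pos h2, if_pos h2]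
        norm_num
      · rw [if_neg h2, if_neg h2]
        norm_num
  · ext d e
    rw [hMP, hPM]
    simp only [hAd, Matrix.of_apply]
    have h1 := hadj d (s.symm e)
    rw [Equiv.apply_symm_apply] at h1
    simp only [h1]
  · ext d e
    rw [Matrix.mul_assoc, hPM, hPM, hPd, Matrix.of_apply, h3]
    by_cases hde : d = e
    · subst hde
      rw [if_pos rfl, Matrix.one_apply_eq]
    · rw [if_neg hde, Matrix.one_apply_ne hde]
  · ext d e
    rw [hMP, hJd, Matrix.of_apply, Matrix.of_apply]
  · rw [Matrix.trace_one, hn]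
    norm_num
  · simp [Matrix.trace, hAd, hi]
  · simp [Matrix.trace, hPd, hfix]
  · rw [Matrix.trace]
    refine Finset.sum_eq_zero fun d _ => ?_
    rw [Matrix.diag_apply, hPM, hPd, Matrix.of_apply, if_neg]
    intro h
    rw [hs2, Equiv.symm_apply_eq] at h
    exact hfix d h.symm
  · rw [Matrix.trace]
    refine Finset.sum_eq_zero fun d _ => ?_
    rw [Matrix.diag_apply, hMP, hAd, Matrix.of_apply, if_neg]
    intro h
    rw [← hadj, Equiv.apply_symm_apply] at h
    exact hline d (hs _ _ h)
  · rw [Matrix.trace]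
    refine Finset.sum_eq_zero fun d _ => ?_
    rw [Matrix.diag_apply, ← Matrix.mul_assoc, hMP, hMP, hAd, Matrix.of_apply, if_neg]
    intro h
    rw [← hs2 d, Equiv.symm_apply_apply] at h
    exact hline d h

end Cfsg.Agent.H850.SRG
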